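import Cfsg.Agent.Lib.Spor.J3.Lines.Words

/-!
Part of the checks on the lines.
-/

set_option autoImplicit false
set_option maxRecDepth 100000
set_option maxHeartbeats 0

namespace CfsgLib.Spor.J3.Lines

theorem count0 : Nat.beq (oddCount 0 0 1) 1 = true := by decide +kernel

theorem count1 : Nat.beq (oddCount 1 0 4) 1 = true := by decide +kernel

theorem count2 : Nat.beq (oddCount 2 0 16) 1 = true := by decide +kernel

theorem count3 : Nat.beq (oddCount 3 0 64) 28 = true := by decide +kernel

theorem count4 : Nat.beq (oddCount 4 0 256) 82 = true := by decide +kernel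

theorem count5 : Nat.beq (oddCount 5 0 1024) 217 = true := by decide +kernel

theorem count6 : Nat.beq (oddCount 6 0 4096) 1162 = true := by decide +kernel

theorem count7 : Nat.beq (oddCount 7 0 16384) 4348 = true := by decide +kernel

theorem count8 : Nat.beq (oddCount 8 0 65536) 17416 = true := by decide +kernel

end CfsgLib.Spor.J3.Lines
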