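import Cfsg.Agent.Lib.Spor.J3.Lines.Words

/-!
Part of the checks on the lines.
-/

set_option autoImplicit false
set_option maxRecDepth 100000
set_option maxHeartbeats 0

namespace CfsgLib.Spor.J3.Lines

theorem lines8B : linesOK 8 16384 16384 = true := by decide +kernel

end CfsgLib.Spor.J3.Lines
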