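import Cfsg.Agent.Lib.Spor.J3.Lines.Words

/-!
Part of the checks on the lines.
-/

set_option autoImplicit false
set_option maxRecDepth 100000
set_option maxHeartbeats 0

namespace CfsgLib.Spor.J3.Lines

theorem lines0 : linesOK 0 0 1 = true := by decide +kernel

theorem lines1 : linesOK 1 0 4 = true := by decide +kernel

theorem lines2 : linesOK 2 0 16 = true := by decide +kernel

theorem lines3 : linesOK 3 0 64 = true := by decide +kernel

theorem lines4 : linesOK 4 0 256 = true := by decide +kernel

theorem lines5 : linesOK 5 0 1024 = true := by decide +kernel

theorem lines6 : linesOK 6 0 4096 = true := by decide +kernel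

end CfsgLib.Spor.J3.Lines
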