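import Cfsg.Agent.Lib.Spor.J3.Lines.Vectors
import Cfsg.Agent.Lib.Spor.J3.Lines.CheckSmall
import Cfsg.Agent.Lib.Spor.J3.Lines.CheckSeven
import Cfsg.Agent.Lib.Spor.J3.Lines.CheckEightA
import Cfsg.Agent.Lib.Spor.J3.Lines.CheckEightB
import Cfsg.Agent.Lib.Spor.J3.Lines.CheckEightC
import Cfsg.Agent.Lib.Spor.J3.Lines.CheckEightD
import Cfsg.Agent.Lib.Spor.J3.Lines.CheckCount

/-!
The orbit of a nonisotropic line under the triple cover, and its transitivity on isotropic lines.
-/

set_option autoImplicit false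
set_option maxRecDepth 100000

namespace CfsgLib.Spor.J3.Lines

open CfsgLib.Spor.Fi22.U6 CfsgLib.Spor.J3.Mat Cfsg.Spor Matrix

theorem linesOK_mem {p lo n : ℕ} (h : linesOK p lo n = true) {r : ℕ} (h1 : lo ≤ r) (h2 : r < lo + n) :
    lineOK (4 ^ p + r) = true :=
  List.all_eq_true.1 h r (List.mem_range'_1.2 ⟨h1, h2⟩)

theorem line_ok {x : ℕ} (h : normal x = true) : lineOK x = true := by
  obtain ⟨-, p, hp, h1, h2⟩ := normal_spec h
  obtain ⟨r, rfl⟩ : ∃ r, x = 4 ^ p + r := ⟨x - 4 ^ p, by omega⟩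
  interval_cases p
  · exact linesOK_mem lines0 (Nat.zero_le _) (by omega)
  · exact linesOK_mem lines1 (Nat.zero_le _) (by omega)
  · exact linesOK_mem lines2 (Nat.zero_le _) (by omega)
  · exact linesOK_mem lines3 (Nat.zero_le _) (by omega)
  · exact linesOK_mem lines4 (Nat.zero_le _) (by omega)
  · exact linesOK_mem lines5 (Nat.zero_le _) (by omega)
  · exact linesOK_mem lines6 (Nat.zero_le _) (by omega)
  · exact linesOK_mem lines7 (Nat.zero_le _) (by omega)
  · by_cases a : r < 16384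
    · exact linesOK_mem lines8A (Nat.zero_le _) (by omega)
    by_cases b : r < 32768
    · exact linesOK_mem lines8B (by omega) (by omega)
    by_cases c : r < 49152
    · exact linesOK_mem lines8C (by omega) (by omega)
    exact linesOK_mem lines8D (by omega) (by omega)

theorem height_le (x : ℕ) : height x ≤ 63 := Nat.and_le_right

theorem up_lt (x : ℕ) : up x < 4 := by
  have h : entry x ≤ 255 := Nat.and_le_right
  show Nat.shiftRight (entry x) 6 < 4
  rw [show Nat.shiftRight (entry x) 6 = entry x / 64 from Nat.shiftRight_eq_div_pow _ 6]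
  omega

attribute [local irreducible] oddCount height even2

/-- The first orbit, as numbers. -/
def InOrbit (x : ℕ) : Prop := normal x = true ∧ height x ≠ 0 ∧ even2 x = false

/-- The matrices carrying the first orbit into itself. -/
def stable : Submonoid M9 where
  carrier := {M | ∀ x, InOrbit x → ∃ y, InOrbit y ∧ ∃ t : Four, t ≠ 0 ∧ M *ᵥ vecOf x = t • vecOf y}
  one_mem' x hx := ⟨x, hx, 1, one_ne_zero, by rw [one_mulVec, one_smul]⟩
  mul_mem' {M N} hM hN x hx := by
    obtain ⟨y, hy, t, ht, e⟩ := hN x hx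
    obtain ⟨z, hz, s, hs, e'⟩ := hM y hy
    exact ⟨z, hz, t * s, mul_ne_zero ht hs, by rw [← mulVec_mulVec, e, mulVec_smul, e', smul_smul]⟩

theorem base_length : progB.base.length = 5 := by decide +kernel

theorem base_stable : ∀ k, k < progB.base.length → progB.val k ∈ stable := by
  intro k hk x hx
  rw [base_length] at hk
  by_cases h4 : k = 4
  · subst h4
    exact ⟨x, hx, Four.w, by decide, by rw [scalar_eq, smul_mulVec, one_mulVec]⟩
  obtain ⟨hn, hh, hev⟩ := hx
  have hlt := (normal_spec hn).1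
  have hl := line_ok hn
  have hh' : Nat.beq (height x) 0 = false := Bool.eq_false_iff.2 fun h => hh (Nat.eq_of_beq_eq_true h)
  simp only [lineOK, hh', Bool.false_eq_true, if_false, Bool.and_eq_true, hev, Bool.false_or] at hl
  have hc := hl.2
  simp only [closedOK, List.all_eq_true, Bool.and_eq_true, Bool.not_eq_true'] at hc
  obtain ⟨⟨a, b⟩, c⟩ := hc k (by simp; omega)
  obtain ⟨hi, he⟩ := img_spec (k := k) (by omega) hlt
  obtain ⟨-, t, ht, e⟩ := least_spec hi
  refine ⟨_, ⟨a, Nat.ne_of_beq_eq_false b, c⟩, t⁻¹, inv_ne_zero ht, ?_⟩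
  rw [he, e, smul_smul, inv_mul_cancel₀ ht, one_smul]

theorem gens_stable (i : Fin 43) : progA.val i ∈ stable := by
  rw [gens_same i]
  exact progB.mem progB_good base_stable _ (lt_of_lt_of_eq (outGens_lt i) (by rw [base_length]))

section

variable {F : Type} [Field F] [Fintype F] (hF : Fintype.card F = 4) (ω : F)

/-- The vector in the field. -/
def fvec (φ : Four →+* F) (x : ℕ) : F9 → F := fun w => φ (vecOf x w)

theorem map_fvec (φ : Four →+* F) (M : M9) (x : ℕ) :
    M.map φ *ᵥ fvec φ x = fun w => φ ((M *ᵥ vecOf x) w) := by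
  funext w
  exact (RingHom.map_mulVec φ M (vecOf x) w).symm

theorem fvec_smul (φ : Four →+* F) {x y : ℕ} {t : Four} (h : vecOf y = t • vecOf x) :
    fvec φ y = φ t • fvec φ x := by
  funext w
  simp [fvec, h]

theorem gen_elems (φ : Four →+* F) (hφw : φ .w = ω) :
    (∀ k, k < 5 → ∃ g ∈ threeJ3 F ω, ((g : GL F9 F) : Matrix F9 F9 F) = (progB.val k).map φ) ∧
    ∀ M ∈ j3Gens F ω, ∃ i : Fin 43, M = (progA.val i).map φ := by
  have hpow : ∀ n, φ (omegaPow Four .w n) = omegaPow F ω n := fun n => by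
    rw [omegaPow, map_pow, hφw, omegaPow]
  have hA : ∀ Z, (j3A Four .w Z).map φ = j3A F ω Z := fun Z => by
    ext i j
    simp only [j3A, Matrix.map_apply, Matrix.diagonal_apply, apply_ite φ, hpow, map_zero]
  have hE : ∀ Z, (j3E Four .w Z).map φ = j3E F ω Z := fun Z => by
    ext i j
    simp only [j3E, Matrix.map_apply, Matrix.diagonal_apply, apply_ite φ, hpow, map_zero]
  have hD : ∀ Z, (j3D Four .w Z).map φ = j3D F ω Z := fun Z => by
    ext i j
    simp only [j3D, Matrix.map_apply, Matrix.of_apply, apply_ite φ, j3Lam, map_one, map_zero, map_pow, hφw]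
  have hB : ∀ Z, (j3B Four Z).map φ = j3B F Z := fun Z => by
    ext i j
    simp only [j3B, Matrix.map_apply, Matrix.of_apply, apply_ite φ, map_one, map_zero]
  have hC : ∀ Z, (j3C Four Z).map φ = j3C F Z := fun Z => by
    ext i j
    simp only [j3C, Matrix.map_apply, Matrix.of_apply, apply_ite φ, map_one, map_zero]
  refine ⟨?_, ?_⟩
  · let S : Submonoid M9 :=
      { carrier := {M | ∃ g : threeJ3 F ω, ((g : GL F9 F) : Matrix F9 F9 F) = M.map φ}
        one_mem' := ⟨1, by simp⟩
        mul_mem' := fun ⟨g, hg⟩ ⟨h, hh⟩ => ⟨g * h, by simp [hg, hh, Matrix.map_mul]⟩ }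
    have hbase : ∀ i, i < progA.base.length → progA.val i ∈ S := by
      intro i hi
      have hmem : (progA.val i).map φ ∈ j3Gens F ω := by
        rcases gens_spec ⟨i, lt_of_lt_of_eq hi (by decide +kernel)⟩ with
          ⟨Z, e⟩ | ⟨Z, e⟩ | ⟨Z, e⟩ | ⟨Z, hZ, e⟩ | ⟨Z, hZ, e⟩ <;> rw [show progA.val i = _ from e]
        · exact Or.inl (Or.inl (Or.inl (Or.inl ⟨Z, (hA Z).symm⟩)))
        · exact Or.inl (Or.inl (Or.inl (Or.inr ⟨Z, (hE Z).symm⟩)))
        · exact Or.inl (Or.inl (Or.inr ⟨Z, (hD Z).symm⟩))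
        · exact Or.inl (Or.inr ⟨Z, hZ, hB Z⟩)
        · exact Or.inr ⟨Z, hZ, hC Z⟩
      have hu : IsUnit ((progA.val i).map φ) :=
        (gens_unit ⟨i, lt_of_lt_of_eq hi (by decide +kernel)⟩).map φ.mapMatrix
      exact ⟨⟨hu.unit, Subgroup.subset_closure (show ((hu.unit : GL F9 F) : Matrix F9 F9 F) ∈ j3Gens F ω from hmem)⟩, rfl⟩
    intro k hk
    rw [(inv_eq ⟨k, hk⟩).2]
    obtain ⟨g, hg⟩ := progA.mem progA_good hbase _
      (lt_of_lt_of_eq (inv_eq ⟨k, hk⟩).1 (by rw [show progA.base.length = 43 by decide +kernel]))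
    exact ⟨g, g.2, hg⟩
  · intro M hM
    have hn : ∀ Z : F9, num9 Z < 9 := num9_lt
    have hn0 : ∀ Z : F9, Z ≠ 0 → 1 ≤ num9 Z := by decide
    rcases hM with (((⟨Z, e⟩ | ⟨Z, e⟩) | ⟨Z, e⟩) | ⟨Z, hZ, e⟩) | ⟨Z, hZ, e⟩
    · exact ⟨⟨num9 Z, by have := hn Z; omega⟩, by rw [gens_same, (gens_back Z).1, hA, e]⟩
    · exact ⟨⟨9 + num9 Z, by have := hn Z; omega⟩, by rw [gens_same, (gens_back Z).2.1, hE, e]⟩
    · exact ⟨⟨18 + num9 Z, by have := hn Z; omega⟩, by rw [gens_same, (gens_back Z).2.2.1, hD, e]⟩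
    · exact ⟨⟨26 + num9 Z, by have := hn Z; omega⟩, by rw [gens_same, ((gens_back Z).2.2.2 hZ).1, hB, e]⟩
    · exact ⟨⟨34 + num9 Z, by have := hn Z; omega⟩, by rw [gens_same, ((gens_back Z).2.2.2 hZ).2, hC, e]⟩

theorem orbit_closed (φ : Four →+* F) (hφw : φ .w = ω) {g : GL F9 F} (hg : g ∈ threeJ3 F ω) {x : ℕ}
    (hx : InOrbit x) :
    ∃ y, InOrbit y ∧ ∃ t : F, t ≠ 0 ∧ (g : Matrix F9 F9 F) *ᵥ fvec φ x = t • fvec φ y := by
  rw [threeJ3, ← Subgroup.mem_toSubmonoid, Subgroup.closure_toSubmonoid_of_finite] at hg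
  induction hg using Submonoid.closure_induction generalizing x with
  | mem g hg =>
    obtain ⟨i, hi⟩ := (gen_elems ω φ hφw).2 _ hg
    obtain ⟨y, hy, t, ht, e⟩ := gens_stable i x hx
    refine ⟨y, hy, φ t, (map_ne_zero φ).2 ht, ?_⟩
    rw [hi, map_fvec, e]
    funext w
    simp [fvec]
  | one => exact ⟨x, hx, 1, one_ne_zero, by rw [Units.val_one, one_mulVec, one_smul]⟩
  | mul g h _ _ ihg ihh =>
    obtain ⟨y, hy, t, ht, e⟩ := ihh hx
    obtain ⟨z, hz, s, hs, e'⟩ := ihg hy
    exact ⟨z, hz, t * s, mul_ne_zero ht hs, by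
      rw [Units.val_mul, ← mulVec_mulVec, e, mulVec_smul, e', smul_smul]⟩

theorem reach (φ : Four →+* F) (hφw : φ .w = ω) : ∀ n x, 63 - height x = n → normal x = true → height x ≠ 0 →
    ∃ g ∈ threeJ3 F ω, ∃ t : F, t ≠ 0 ∧
      (g : Matrix F9 F9 F) *ᵥ fvec φ (if even2 x then 5 else 1) = t • fvec φ x := by
  intro n
  induction n using Nat.strong_induction_on with
  | _ n ih =>
    intro x hn hx hh
    by_cases h15 : x = 1 ∨ x = 5
    · have e : (if even2 x then 5 else 1) = x := by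
        rcases h15 with rfl | rfl
        · rw [show even2 1 = false by decide +kernel]; rfl
        · rw [show even2 5 = true by decide +kernel]; rfl
      exact ⟨1, one_mem _, 1, one_ne_zero, by rw [e, Units.val_one, one_mulVec, one_smul]⟩
    have hl := line_ok hx
    have hh' : Nat.beq (height x) 0 = false := Bool.eq_false_iff.2 fun h => hh (Nat.eq_of_beq_eq_true h)
    simp only [not_or] at h15
    have b1 : Nat.beq x 1 = false := Bool.eq_false_iff.2 fun h => h15.1 (Nat.eq_of_beq_eq_true h)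
    have b5 : Nat.beq x 5 = false := Bool.eq_false_iff.2 fun h => h15.2 (Nat.eq_of_beq_eq_true h)
    simp only [lineOK, hh', b1, b5, Bool.false_eq_true, if_false, Bool.and_eq_true, Bool.false_or] at hl
    have hc := hl.1
    simp only [climbOK, Bool.and_eq_true, beq_iff_eq] at hc
    obtain ⟨⟨hlt, hny⟩, hpar⟩ := hc
    have hlt' : height x < height (least (img (up x) x)) := Nat.le_of_ble_eq_true hlt
    obtain ⟨hi, he⟩ := img_spec (k := up x) (by have := up_lt x; omega) (normal_spec hx).1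
    obtain ⟨-, s, hs, es⟩ := least_spec hi
    have hb := height_le (least (img (up x) x))
    obtain ⟨g, hg, t, ht, eg⟩ := ih _ (by omega) (least (img (up x) x)) rfl hny (by omega)
    rw [hpar, fvec_smul φ es] at eg
    obtain ⟨gk, hgk, ek⟩ := (gen_elems ω φ hφw).1 (up x) (by have := up_lt x; omega)
    refine ⟨gk⁻¹ * g, mul_mem (inv_mem hgk) hg, t * φ s, mul_ne_zero ht ((map_ne_zero φ).2 hs), ?_⟩
    have ei : fvec φ (img (up x) x) = (gk : Matrix F9 F9 F) *ᵥ fvec φ x := by
      rw [ek, map_fvec, he]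
      rfl
    rw [Units.val_mul, ← mulVec_mulVec, eg, ei, mulVec_smul, mulVec_smul, mulVec_mulVec, ← Units.val_mul,
      inv_mul_cancel, Units.val_one, one_mulVec, smul_smul]

theorem count_spec {p n c : ℕ} (h : Nat.beq (oddCount p 0 n) c = true) (hn : n = 4 ^ p) :
    ((Finset.range (4 ^ p)).filter
      fun r => height (4 ^ p + r) ≠ 0 ∧ even2 (4 ^ p + r) = false).card = c := by
  subst hn
  rw [← Nat.eq_of_beq_eq_true h, oddCount, ← List.range_eq_range', List.countP_eq_length_filter,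
    Finset.card_def, Finset.filter_val, Finset.range_val, Multiset.range, Multiset.filter_coe, Multiset.coe_card]
  congr 1
  refine List.filter_congr fun r _ => ?_
  rw [Bool.eq_iff_iff]
  simp only [decide_eq_true_eq, Bool.and_eq_true, Bool.not_eq_true']
  constructor
  · rintro ⟨a, b⟩
    exact ⟨Bool.eq_false_iff.2 fun h => a (Nat.eq_of_beq_eq_true h), b⟩
  · rintro ⟨a, b⟩
    exact ⟨Nat.ne_of_beq_eq_false a, b⟩

end

/-- The first orbit by leading place and remainder. -/
noncomputable def orbitIdx : Finset (Σ _ : ℕ, ℕ) := (Finset.range 9).sigma fun p =>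
  (Finset.range (4 ^ p)).filter fun r => height (4 ^ p + r) ≠ 0 ∧ even2 (4 ^ p + r) = false

theorem mem_orbitIdx {z : Σ _ : ℕ, ℕ} (hz : z ∈ orbitIdx) : InOrbit (4 ^ z.1 + z.2) := by
  simp only [orbitIdx, Finset.mem_sigma, Finset.mem_range, Finset.mem_filter] at hz
  exact ⟨normal_of hz.1 (Nat.le_add_right _ _) (by omega), hz.2.2⟩

theorem card_sigma_nine {g : ℕ → Finset ℕ} {c0 c1 c2 c3 c4 c5 c6 c7 c8 : ℕ} (h0 : (g 0).card = c0)
    (h1 : (g 1).card = c1) (h2 : (g 2).card = c2) (h3 : (g 3).card = c3) (h4 : (g 4).card = c4)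
    (h5 : (g 5).card = c5) (h6 : (g 6).card = c6) (h7 : (g 7).card = c7) (h8 : (g 8).card = c8) :
    ((Finset.range 9).sigma g).card = c0 + c1 + c2 + c3 + c4 + c5 + c6 + c7 + c8 := by
  simp [Finset.card_sigma, Finset.sum_range_succ, h0, h1, h2, h3, h4, h5, h6, h7, h8]

theorem card_orbitIdx : orbitIdx.card = 23256 :=
  (card_sigma_nine (count_spec count0 (by norm_num)) (count_spec count1 (by norm_num))
    (count_spec count2 (by norm_num)) (count_spec count3 (by norm_num)) (count_spec count4 (by norm_num))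
    (count_spec count5 (by norm_num)) (count_spec count6 (by norm_num)) (count_spec count7 (by norm_num))
    (count_spec count8 (by norm_num))).trans (by norm_num)

theorem main (F : Type) [Field F] [Fintype F] (hF : Fintype.card F = 4) (ω : F) (hω : ω ^ 2 + ω + 1 = 0) :
    {L : Submodule F (F9 → F) | ∃ g ∈ threeJ3 F ω,
      L = F ∙ ((g : Matrix F9 F9 F) *ᵥ (Pi.single (0 : F9) (1 : F) : F9 → F))}.ncard = 23256 ∧
    ∀ v w : F9 → F, v ≠ 0 → w ≠ 0 → ∑ z, (v z) ^ 3 = 0 → ∑ z, (w z) ^ 3 = 0 →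
      ∃ g ∈ threeJ3 F ω, ∃ c : F, c ≠ 0 ∧ (g : Matrix F9 F9 F) *ᵥ v = c • w := by
  classical
  obtain ⟨φ, hφw, hφ⟩ := exists_field_equiv hF ω hω
  have he0 : fvec φ 1 = Pi.single (0 : F9) (1 : F) := by
    have h1 : vecOf 1 = Pi.single (0 : F9) (1 : Four) := by decide +kernel
    funext z
    simp [fvec, h1, Pi.single_apply, apply_ite φ]
  constructor
  · let f : (Σ _ : ℕ, ℕ) → Submodule F (F9 → F) := fun z => F ∙ fvec φ (4 ^ z.1 + z.2)
    have heq : {L : Submodule F (F9 → F) | ∃ g ∈ threeJ3 F ω,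
        L = F ∙ ((g : Matrix F9 F9 F) *ᵥ (Pi.single (0 : F9) (1 : F) : F9 → F))} = f '' ↑orbitIdx := by
      ext L
      constructor
      · rintro ⟨g, hg, rfl⟩
        have h1 : InOrbit 1 := ⟨by decide +kernel, by decide +kernel, by decide +kernel⟩
        obtain ⟨y, hy, t, ht, e⟩ := orbit_closed ω φ hφw hg h1
        obtain ⟨hyl, p, hp, y1, y2⟩ := normal_spec hy.1
        refine ⟨⟨p, y - 4 ^ p⟩, ?_, ?_⟩
        · simp only [orbitIdx, Finset.mem_coe, Finset.mem_sigma, Finset.mem_range, Finset.mem_filter]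
          rw [Nat.add_sub_cancel' y1]
          exact ⟨hp, by omega, hy.2⟩
        · show F ∙ fvec φ (4 ^ p + (y - 4 ^ p)) = _
          rw [Nat.add_sub_cancel' y1, ← he0, e, Submodule.span_singleton_smul_eq (isUnit_iff_ne_zero.2 ht)]
      · rintro ⟨z, hz, rfl⟩
        obtain ⟨hn, hh, hev⟩ := mem_orbitIdx hz
        obtain ⟨g, hg, t, ht, e⟩ := reach ω φ hφw _ _ rfl hn hh
        rw [hev] at e
        refine ⟨g, hg, ?_⟩
        simp only [Bool.false_eq_true, if_false, he0] at e
        rw [e, Submodule.span_singleton_smul_eq (isUnit_iff_ne_zero.2 ht)]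
    have hinj : Set.InjOn f ↑orbitIdx := by
      intro a ha b hb e
      obtain ⟨hna, -, -⟩ := mem_orbitIdx ha
      obtain ⟨hnb, -, -⟩ := mem_orbitIdx hb
      obtain ⟨t, ht⟩ := Submodule.mem_span_singleton.1
        (e ▸ Submodule.mem_span_singleton_self _ : fvec φ (4 ^ a.1 + a.2) ∈ f b)
      obtain ⟨t', rfl⟩ := hφ.2 t
      have hv : vecOf (4 ^ a.1 + a.2) = t' • vecOf (4 ^ b.1 + b.2) := funext fun w => hφ.1 (by
        simpa [fvec] using (congrFun ht w).symm)
      have ht0 : t' ≠ 0 := by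
        rintro rfl
        obtain ⟨-, p, hp, x1, x2⟩ := normal_spec hna
        have := top_digit x1 x2
        rw [if_pos hp, hv, zero_smul] at this
        exact zero_ne_one this
      have hx := line_inj hnb hna ht0 hv
      obtain ⟨a1, a2⟩ := a
      obtain ⟨b1, b2⟩ := b
      simp only [orbitIdx, Finset.mem_coe, Finset.mem_sigma, Finset.mem_range, Finset.mem_filter] at ha hb
      simp only at hx
      have hp : a1 = b1 := by
        rcases lt_trichotomy a1 b1 with h | h | h
        · have : 4 ^ (a1 + 1) ≤ 4 ^ b1 := Nat.pow_le_pow_right (by norm_num) h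
          rw [pow_succ] at this; omega
        · exact h
        · have : 4 ^ (b1 + 1) ≤ 4 ^ a1 := Nat.pow_le_pow_right (by norm_num) h
          rw [pow_succ] at this; omega
      subst hp
      rw [show a2 = b2 by omega]
    rw [heq, hinj.ncard_image, Set.ncard_coe_finset, card_orbitIdx]
  · have key : ∀ v : F9 → F, v ≠ 0 → ∑ z, (v z) ^ 3 = 0 →
        ∃ g ∈ threeJ3 F ω, ∃ t : F, t ≠ 0 ∧ (g : Matrix F9 F9 F) *ᵥ fvec φ 5 = t • v := by
      intro v hv hs
      choose v' hv' using fun z => hφ.2 (v z)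
      have hv0 : v' ≠ 0 := fun h => hv (funext fun z => by rw [← hv', h]; exact map_zero φ)
      obtain ⟨x, hn, t, ht, e⟩ := exists_normal hv0
      have hval : v = φ t • fvec φ x := funext fun z => by rw [← hv', e]; simp [fvec]
      have hlt := (normal_spec hn).1
      have hev : even2 x = true := by
        have h := even_spec hlt
        have h3 : (φ t) ^ 3 * φ (∑ z, vecOf x z ^ 3) = 0 := by
          rw [← hs, map_sum, Finset.mul_sum, hval]
          refine Finset.sum_congr rfl fun z _ => ?_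
          simp [fvec, mul_pow, map_pow]
        rw [h] at h3
        cases hb : even2 x
        · rw [hb] at h3
          simp only [Bool.false_eq_true, if_false, map_one, mul_one] at h3
          exact absurd h3 (pow_ne_zero _ ((map_ne_zero φ).2 ht))
        · rfl
      have hh : height x ≠ 0 := fun h0 => by
        have hl := line_ok hn
        simp [lineOK, h0, hev] at hl
      obtain ⟨g, hg, s, hs', eg⟩ := reach ω φ hφw _ _ rfl hn hh
      rw [hev] at eg
      simp only [if_true] at eg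
      refine ⟨g, hg, s * (φ t)⁻¹, mul_ne_zero hs' (inv_ne_zero ((map_ne_zero φ).2 ht)), ?_⟩
      rw [eg, hval, smul_smul, mul_assoc, inv_mul_cancel₀ ((map_ne_zero φ).2 ht), mul_one]
    intro v w hv hw hsv hsw
    obtain ⟨g, hg, t, ht, e⟩ := key v hv hsv
    obtain ⟨h, hh, s, hs, e'⟩ := key w hw hsw
    refine ⟨h * g⁻¹, mul_mem hh (inv_mem hg), t⁻¹ * s, mul_ne_zero (inv_ne_zero ht) hs, ?_⟩
    have ev : v = t⁻¹ • ((g : Matrix F9 F9 F) *ᵥ fvec φ 5) := by
      rw [e, smul_smul, inv_mul_cancel₀ ht, one_smul]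
    rw [ev, mulVec_smul, mulVec_mulVec, ← Units.val_mul, inv_mul_cancel_right, e', smul_smul]

end CfsgLib.Spor.J3.Lines
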