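import Cfsg.Agent.Lib.Spor.J3.Lines.Words
import Cfsg.Agent.Lib.Spor.J3.Mat.Group

/-!
Packed vectors over the four-element field, and the images under the five matrices.
-/

set_option autoImplicit false
set_option maxRecDepth 100000

namespace CfsgLib.Spor.J3.Lines

open CfsgLib.Spor.Fi22.U6 CfsgLib.Spor.J3.Mat Cfsg.Spor Matrix

/-- The vector of a number. -/
def vecOf (n : ℕ) : F9 → Four := fun w => four (n / 4 ^ num9 w % 4)

/-- The index with a given place. -/
def place (i : ℕ) : F9 := ⟨((i / 3 : ℕ) : ZMod 3), ((i % 3 : ℕ) : ZMod 3)⟩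

theorem num9_place : ∀ i : Fin 9, num9 (place i.1) = i.1 := by decide

theorem num9_lt : ∀ w : F9, num9 w < 9 := by decide

theorem place_num9 : ∀ w : F9, place (num9 w) = w := by decide

theorem four_xor : ∀ a b : Fin 4, four (a.1 ^^^ b.1) = four a.1 + four b.1 := by decide

theorem four_inj : ∀ a b : Fin 4, four a.1 = four b.1 → a = b := by decide

theorem digit_xor (a b i : ℕ) : (a ^^^ b) / 4 ^ i % 4 = (a / 4 ^ i % 4) ^^^ (b / 4 ^ i % 4) := by
  have e : (4 : ℕ) ^ i = 2 ^ (2 * i) := by rw [pow_mul]; rfl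
  rw [e, ← Nat.shiftRight_eq_div_pow, ← Nat.shiftRight_eq_div_pow, ← Nat.shiftRight_eq_div_pow,
    Nat.shiftRight_xor_distrib, show (4 : ℕ) = 2 ^ 2 from rfl, ← Nat.and_two_pow_sub_one_eq_mod,
    ← Nat.and_two_pow_sub_one_eq_mod, ← Nat.and_two_pow_sub_one_eq_mod, Nat.and_xor_distrib_right]

theorem vecOf_xor (a b : ℕ) : vecOf (a ^^^ b) = vecOf a + vecOf b := by
  funext w
  rw [Pi.add_apply, vecOf, vecOf, vecOf, digit_xor]
  exact four_xor ⟨_, Nat.mod_lt _ (by norm_num)⟩ ⟨_, Nat.mod_lt _ (by norm_num)⟩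

theorem vecOf_digits {x : ℕ} (hx : x < 262144) {y : ℕ} (hy : y < 262144) (h : vecOf x = vecOf y) : x = y := by
  have d : ∀ i : Fin 9, x / 4 ^ i.1 % 4 = y / 4 ^ i.1 % 4 := fun i => by
    have e := congrFun h (place i.1)
    simp only [vecOf, num9_place] at e
    exact congrArg Fin.val (four_inj ⟨_, Nat.mod_lt _ (by norm_num)⟩ ⟨_, Nat.mod_lt _ (by norm_num)⟩ e)
  have h0 := d 0; have h1 := d 1; have h2 := d 2; have h3 := d 3; have h4 := d 4
  have h5 := d 5; have h6 := d 6; have h7 := d 7; have h8 := d 8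
  simp only [Fin.val_zero, Fin.val_one, Fin.val_ofNat, pow_zero, pow_one] at h0 h1 h2 h3 h4 h5 h6 h7 h8
  norm_num at h2 h3 h4 h5 h6 h7 h8
  omega

theorem four_zero : four 0 = 0 := rfl

theorem vecOf_parts {x : ℕ} (hx : x < 262144) :
    vecOf x = vecOf (x % 64) + vecOf (64 * (x / 64 % 64)) + vecOf (4096 * (x / 4096 % 64)) := by
  funext w
  simp only [Pi.add_apply, vecOf]
  obtain ⟨i, hi, e⟩ : ∃ i, i < 9 ∧ num9 w = i := ⟨_, num9_lt w, rfl⟩
  rw [e]
  interval_cases i <;>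
    simp only [pow_zero, pow_one, Nat.reducePow, Nat.div_one] <;>
    [ (have a : 64 * (x / 64 % 64) % 4 = 0 := by omega
       have b : 4096 * (x / 4096 % 64) % 4 = 0 := by omega
       rw [a, b, show x % 64 % 4 = x % 4 by omega]);
      (have a : 64 * (x / 64 % 64) / 4 % 4 = 0 := by omega
       have b : 4096 * (x / 4096 % 64) / 4 % 4 = 0 := by omega
       rw [a, b, show x % 64 / 4 % 4 = x / 4 % 4 by omega]);
      (have a : 64 * (x / 64 % 64) / 16 % 4 = 0 := by omega
       have b : 4096 * (x / 4096 % 64) / 16 % 4 = 0 := by omega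
       rw [a, b, show x % 64 / 16 % 4 = x / 16 % 4 by omega]);
      (have a : x % 64 / 64 % 4 = 0 := by omega
       have b : 4096 * (x / 4096 % 64) / 64 % 4 = 0 := by omega
       rw [a, b, show 64 * (x / 64 % 64) / 64 % 4 = x / 64 % 4 by omega]);
      (have a : x % 64 / 256 % 4 = 0 := by omega
       have b : 4096 * (x / 4096 % 64) / 256 % 4 = 0 := by omega
       rw [a, b, show 64 * (x / 64 % 64) / 256 % 4 = x / 256 % 4 by omega]);
      (have a : x % 64 / 1024 % 4 = 0 := by omega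
       have b : 4096 * (x / 4096 % 64) / 1024 % 4 = 0 := by omega
       rw [a, b, show 64 * (x / 64 % 64) / 1024 % 4 = x / 1024 % 4 by omega]);
      (have a : x % 64 / 4096 % 4 = 0 := by omega
       have b : 64 * (x / 64 % 64) / 4096 % 4 = 0 := by omega
       rw [a, b, show 4096 * (x / 4096 % 64) / 4096 % 4 = x / 4096 % 4 by omega]);
      (have a : x % 64 / 16384 % 4 = 0 := by omega
       have b : 64 * (x / 64 % 64) / 16384 % 4 = 0 := by omega
       rw [a, b, show 4096 * (x / 4096 % 64) / 16384 % 4 = x / 16384 % 4 by omega]);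
      (have a : x % 64 / 65536 % 4 = 0 := by omega
       have b : 64 * (x / 64 % 64) / 65536 % 4 = 0 := by omega
       rw [a, b, show 4096 * (x / 4096 % 64) / 65536 % 4 = x / 65536 % 4 by omega])] <;>
    simp [four_zero]

set_option maxHeartbeats 0 in
theorem part_spec : ∀ k : Fin 5, ∀ t : Fin 3, ∀ i : Fin 64,
    part k.1 t.1 i.1 < 262144 ∧ progB.val k.1 *ᵥ vecOf (64 ^ t.1 * i.1) = vecOf (part k.1 t.1 i.1) := by
  decide +kernel

theorem land_63 (x : ℕ) : Nat.land x 63 = x % 64 := Nat.and_two_pow_sub_one_eq_mod x 6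

theorem img_parts (k x : ℕ) : img k x =
    part k 0 (x % 64) ^^^ part k 1 (x / 64 % 64) ^^^ part k 2 (x / 4096 % 64) := by
  unfold img
  rw [land_63, land_63, land_63, show Nat.shiftRight x 6 = x / 64 from Nat.shiftRight_eq_div_pow x 6,
    show Nat.shiftRight x 12 = x / 4096 from Nat.shiftRight_eq_div_pow x 12]
  rfl

theorem img_spec {k : ℕ} (hk : k < 5) {x : ℕ} (hx : x < 262144) :
    img k x < 262144 ∧ progB.val k *ᵥ vecOf x = vecOf (img k x) := by
  obtain ⟨l0, e0⟩ := part_spec ⟨k, hk⟩ 0 ⟨x % 64, Nat.mod_lt _ (by norm_num)⟩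
  obtain ⟨l1, e1⟩ := part_spec ⟨k, hk⟩ 1 ⟨x / 64 % 64, Nat.mod_lt _ (by norm_num)⟩
  obtain ⟨l2, e2⟩ := part_spec ⟨k, hk⟩ 2 ⟨x / 4096 % 64, Nat.mod_lt _ (by norm_num)⟩
  simp only [Fin.val_zero, Fin.val_one, Fin.val_two, pow_zero, pow_one, one_mul,
    show (64 : ℕ) ^ 2 = 4096 from rfl] at l0 e0 l1 e1 l2 e2
  rw [img_parts]
  refine ⟨?_, ?_⟩
  · exact Nat.xor_lt_two_pow (n := 18) (Nat.xor_lt_two_pow (n := 18) l0 l1) l2
  · rw [vecOf_xor, vecOf_xor, ← e0, ← e1, ← e2, ← mulVec_add, ← mulVec_add, ← vecOf_parts hx]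

theorem img_scalar {x : ℕ} (hx : x < 262144) : vecOf (img 4 x) = Four.w • vecOf x := by
  rw [← (img_spec (k := 4) (by norm_num) hx).2, scalar_eq, smul_mulVec, one_mulVec]

theorem least_spec {x : ℕ} (hx : x < 262144) :
    least x < 262144 ∧ ∃ t : Four, t ≠ 0 ∧ vecOf (least x) = t • vecOf x := by
  have hy := (img_spec (k := 4) (by norm_num) hx).1
  have hz := (img_spec (k := 4) (by norm_num) hy).1
  have key : least x = x ∨ least x = img 4 x ∨ least x = img 4 (img 4 x) := by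
    simp only [least]
    cases Nat.ble (img 4 x) (img 4 (img 4 x)) <;> dsimp only
    · cases Nat.ble x (img 4 (img 4 x)) <;> simp
    · cases Nat.ble x (img 4 x) <;> simp
  rcases key with e | e | e <;> rw [e]
  · exact ⟨hx, 1, one_ne_zero, (one_smul _ _).symm⟩
  · exact ⟨hy, Four.w, by decide, img_scalar hx⟩
  · exact ⟨hz, Four.w * Four.w, by decide, by rw [img_scalar hy, img_scalar hx, smul_smul]⟩

theorem normal_spec {x : ℕ} (h : normal x = true) :
    x < 262144 ∧ ∃ p < 9, 4 ^ p ≤ x ∧ x < 2 * 4 ^ p := by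
  simp only [normal, Bool.and_eq_true, Bool.not_eq_true'] at h
  obtain ⟨⟨h1, h2⟩, h3⟩ := h
  have h0 : x ≠ 0 := Nat.ne_of_beq_eq_false h3
  have hlt : x < 262144 := Nat.le_of_ble_eq_true h2
  have hev : Nat.log2 x % 2 = 0 := by
    rw [← Nat.and_one_is_mod]; exact Nat.eq_of_beq_eq_true h1
  obtain ⟨p, hp⟩ : ∃ p, Nat.log2 x = 2 * p := ⟨Nat.log2 x / 2, by omega⟩
  have h4 := Nat.log2_self_le h0
  have h5 := Nat.lt_log2_self (n := x)
  rw [hp, pow_mul] at h4
  rw [hp, pow_succ, pow_mul] at h5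
  norm_num at h4 h5
  refine ⟨hlt, p, ?_, h4, by omega⟩
  by_contra hp9
  have : (4 : ℕ) ^ 9 ≤ 4 ^ p := Nat.pow_le_pow_right (by norm_num) (by omega)
  omega

theorem normal_of {x p : ℕ} (hp : p < 9) (h1 : 4 ^ p ≤ x) (h2 : x < 2 * 4 ^ p) : normal x = true := by
  have h0 : x ≠ 0 := by have := Nat.one_le_pow p 4 (by norm_num); omega
  have hl : Nat.log2 x = 2 * p := by
    rw [Nat.log2_eq_iff h0, pow_succ, pow_mul]
    norm_num
    omega
  have hlt : x < 262144 := by
    have : (4 : ℕ) ^ p ≤ 4 ^ 8 := Nat.pow_le_pow_right (by norm_num) (by omega)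
    omega
  simp only [normal, hl, Bool.and_eq_true, Bool.not_eq_true']
  refine ⟨⟨?_, Nat.ble_eq_true_of_le (by omega)⟩, ?_⟩
  · rw [Nat.beq_eq]; rw [show Nat.land (2 * p) 1 = (2 * p) % 2 from Nat.and_one_is_mod _]; omega
  · exact Bool.eq_false_iff.2 fun h => h0 (Nat.eq_of_beq_eq_true h)

theorem top_digit {x p : ℕ} (h1 : 4 ^ p ≤ x) (h2 : x < 2 * 4 ^ p) :
    vecOf x (place p) = if p < 9 then 1 else vecOf x (place p) := by
  split_ifs with hp
  · simp only [vecOf, show num9 (place p) = p from num9_place ⟨p, hp⟩]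
    rw [Nat.div_eq_of_lt_le (k := 1) (by omega) (by omega)]
    rfl
  · rfl

theorem above_zero {x p i : ℕ} (h2 : x < 2 * 4 ^ p) (hpi : p < i) (hi : i < 9) : vecOf x (place i) = 0 := by
  simp only [vecOf, show num9 (place i) = i from num9_place ⟨i, hi⟩]
  have : 4 ^ (p + 1) ≤ 4 ^ i := Nat.pow_le_pow_right (by norm_num) hpi
  rw [Nat.div_eq_of_lt (by rw [pow_succ] at this; omega)]
  rfl

theorem line_inj {x y : ℕ} (hx : normal x = true) (hy : normal y = true) {t : Four} (ht : t ≠ 0)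
    (h : vecOf y = t • vecOf x) : x = y := by
  obtain ⟨hxl, p, hp, x1, x2⟩ := normal_spec hx
  obtain ⟨hyl, q, hq, y1, y2⟩ := normal_spec hy
  have ex : vecOf x (place p) = 1 := by have := top_digit x1 x2; rwa [if_pos hp] at this
  have ey : vecOf y (place q) = 1 := by have := top_digit y1 y2; rwa [if_pos hq] at this
  have hpq : p = q := by
    rcases lt_trichotomy p q with hlt | he | hlt
    · rw [h, Pi.smul_apply, above_zero x2 hlt hq, smul_zero] at ey
      exact absurd ey zero_ne_one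
    · exact he
    · have e := congrFun h (place p)
      rw [above_zero y2 hlt hp, Pi.smul_apply, ex, smul_eq_mul, mul_one] at e
      exact absurd e.symm ht
  subst hpq
  rw [h, Pi.smul_apply, ex, smul_eq_mul, mul_one] at ey
  subst ey
  rw [one_smul] at h
  exact (vecOf_digits hyl hxl h).symm

theorem odd_spec : ∀ t : Fin 3, ∀ i : Fin 64,
    ∑ w, vecOf (64 ^ t.1 * i.1) w ^ 3 = if odd6 i.1 then 1 else 0 := by decide +kernel

theorem even_spec {x : ℕ} (hx : x < 262144) : ∑ w, vecOf x w ^ 3 = if even2 x then 0 else 1 := by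
  have hsplit : ∀ w, vecOf x w ^ 3 = vecOf (x % 64) w ^ 3 + vecOf (64 * (x / 64 % 64)) w ^ 3 +
      vecOf (4096 * (x / 4096 % 64)) w ^ 3 := by
    intro w
    rw [congrFun (vecOf_parts hx) w]
    simp only [Pi.add_apply]
    have hz : vecOf (x % 64) w = 0 ∧ vecOf (64 * (x / 64 % 64)) w = 0 ∨
        vecOf (x % 64) w = 0 ∧ vecOf (4096 * (x / 4096 % 64)) w = 0 ∨
        vecOf (64 * (x / 64 % 64)) w = 0 ∧ vecOf (4096 * (x / 4096 % 64)) w = 0 := by
      simp only [vecOf]
      obtain ⟨i, hi, e⟩ : ∃ i, i < 9 ∧ num9 w = i := ⟨_, num9_lt w, rfl⟩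
      rw [e]
      have key : ∀ n : ℕ, n % 4 = 0 → four (n % 4) = 0 := fun n hn => by rw [hn]; rfl
      interval_cases i <;> simp only [Nat.reducePow, Nat.div_one, pow_zero, pow_one] <;>
        first
          | exact Or.inr (Or.inr ⟨key _ (by omega), key _ (by omega)⟩)
          | exact Or.inr (Or.inl ⟨key _ (by omega), key _ (by omega)⟩)
          | exact Or.inl ⟨key _ (by omega), key _ (by omega)⟩
    rcases hz with ⟨a, b⟩ | ⟨a, b⟩ | ⟨a, b⟩ <;>
      simp only [a, b, add_zero, zero_add, zero_pow (by norm_num : 3 ≠ 0)]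
  rw [Finset.sum_congr rfl fun w _ => hsplit w, Finset.sum_add_distrib, Finset.sum_add_distrib]
  have e0 := odd_spec 0 ⟨x % 64, Nat.mod_lt _ (by norm_num)⟩
  have e1 := odd_spec 1 ⟨x / 64 % 64, Nat.mod_lt _ (by norm_num)⟩
  have e2 := odd_spec 2 ⟨x / 4096 % 64, Nat.mod_lt _ (by norm_num)⟩
  simp only [Fin.val_zero, Fin.val_one, Fin.val_two, pow_zero, pow_one, one_mul,
    show (64 : ℕ) ^ 2 = 4096 from rfl] at e0 e1 e2
  rw [e0, e1, e2]
  simp only [even2, land_63, show Nat.shiftRight x 6 = x / 64 from Nat.shiftRight_eq_div_pow x 6,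
    show Nat.shiftRight x 12 = x / 4096 from Nat.shiftRight_eq_div_pow x 12]
  cases odd6 (x % 64) <;> cases odd6 (x / 64 % 64) <;> cases odd6 (x / 4096 % 64) <;> decide

theorem vecOf_surjective (v : F9 → Four) : ∃ x < 262144, vecOf x = v := by
  have hb : Function.Bijective fun x : Fin 262144 => vecOf x.1 := by
    refine (Fintype.bijective_iff_injective_and_card _).2 ⟨fun a b e => Fin.ext (vecOf_digits a.2 b.2 e), ?_⟩
    rw [Fintype.card_fun, Four.card_four, Fintype.card_fin]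
    simp [Fintype.card_prod, ZMod.card]
  obtain ⟨x, hx⟩ := hb.2 v
  exact ⟨x.1, x.2, hx⟩

theorem exists_normal {v : F9 → Four} (hv : v ≠ 0) :
    ∃ x, normal x = true ∧ ∃ t : Four, t ≠ 0 ∧ v = t • vecOf x := by
  classical
  obtain ⟨w0, hw0⟩ : ∃ w, v w ≠ 0 := not_forall.1 fun h => hv (funext h)
  let s : Finset ℕ := (Finset.range 9).filter fun i => v (place i) ≠ 0
  have hne : s.Nonempty := ⟨num9 w0, Finset.mem_filter.2 ⟨Finset.mem_range.2 (num9_lt w0), by rwa [place_num9]⟩⟩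
  obtain ⟨hp, hvp⟩ := Finset.mem_filter.1 (s.max'_mem hne)
  rw [Finset.mem_range] at hp
  set p := s.max' hne with hpdef
  obtain ⟨x, hx, hxv⟩ := vecOf_surjective ((v (place p))⁻¹ • v)
  have dig : ∀ i : Fin 9, four (x / 4 ^ i.1 % 4) = (v (place p))⁻¹ * v (place i.1) := fun i => by
    have e := congrFun hxv (place i.1)
    simpa [vecOf, num9_place] using e
  have dtop : x / 4 ^ p % 4 = 1 := by
    have e := dig ⟨p, hp⟩
    rw [inv_mul_cancel₀ hvp] at e
    exact congrArg Fin.val (four_inj ⟨_, Nat.mod_lt _ (by norm_num)⟩ ⟨1, by norm_num⟩ e)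
  have dabove : ∀ i : Fin 9, p < i.1 → x / 4 ^ i.1 % 4 = 0 := fun i hi => by
    have hz : v (place i.1) = 0 := by
      by_contra h
      have := Finset.le_max' s i.1 (Finset.mem_filter.2 ⟨Finset.mem_range.2 i.2, h⟩)
      omega
    have e := dig i
    rw [hz, mul_zero] at e
    exact congrArg Fin.val (four_inj ⟨_, Nat.mod_lt _ (by norm_num)⟩ ⟨0, by norm_num⟩ e)
  have h0 := dabove 0; have h1 := dabove 1; have h2 := dabove 2; have h3 := dabove 3; have h4 := dabove 4
  have h5 := dabove 5; have h6 := dabove 6; have h7 := dabove 7; have h8 := dabove 8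
  norm_num at h0 h1 h2 h3 h4 h5 h6 h7 h8
  refine ⟨x, ?_, v (place p), hvp, by rw [hxv, smul_smul, mul_inv_cancel₀ hvp, one_smul]⟩
  refine normal_of hp ?_ ?_ <;> clear_value p <;> interval_cases p <;> norm_num at * <;> omega

end CfsgLib.Spor.J3.Lines
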