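import Cfsg.Agent.Lib.Spor.J3.Lines.Data

/-!
The checks on the table of lines.
-/

set_option autoImplicit false

namespace CfsgLib.Spor.J3.Lines

/-- An entry of a list. -/
noncomputable def nth {α : Type} (d : α) : List α → ℕ → α :=
  List.rec (fun _ => d) fun a _ r n => Bool.rec (r (Nat.sub n 1)) a (Nat.beq n 0)

/-- The image of a part of a vector. -/
noncomputable def part (k t i : ℕ) : ℕ := Nat.land (Nat.shiftRight (nth 0 (nth [] parts k) t) (Nat.mul 18 i)) 262143

/-- The image of a packed vector under a matrix. -/
noncomputable def img (k x : ℕ) : ℕ :=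
  Nat.xor (Nat.xor (part k 0 (Nat.land x 63)) (part k 1 (Nat.land (Nat.shiftRight x 6) 63)))
    (part k 2 (Nat.land (Nat.shiftRight x 12) 63))

/-- The least of the multiples of a packed vector. -/
noncomputable def least (x : ℕ) : ℕ :=
  let y := img 4 x
  let z := img 4 y
  let m := Bool.rec z y (Nat.ble y z)
  Bool.rec m x (Nat.ble x m)

/-- The entry of a line. -/
noncomputable def entry (x : ℕ) : ℕ :=
  Nat.land (Nat.shiftRight (nth 0 rows (Nat.shiftRight x 13)) (Nat.mul 8 (Nat.land x 8191))) 255

/-- The height of a line, zero outside the table. -/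
noncomputable def height (x : ℕ) : ℕ := Nat.land (entry x) 63

/-- The matrix leading upwards. -/
noncomputable def up (x : ℕ) : ℕ := Nat.shiftRight (entry x) 6

/-- The triples of places with an odd number of nonzero entries, as bits. -/
noncomputable def odd6 (x : ℕ) : Bool := Nat.beq (Nat.land (Nat.shiftRight 17213301904929526046 x) 1) 1

/-- An even number of nonzero places. -/
noncomputable def even2 (x : ℕ) : Bool :=
  !((odd6 (Nat.land x 63)).xor ((odd6 (Nat.land (Nat.shiftRight x 6) 63)).xor
    (odd6 (Nat.land (Nat.shiftRight x 12) 63))))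

/-- The number is normalised. -/
noncomputable def normal (x : ℕ) : Bool :=
  let lg := Nat.log2 x
  Nat.beq (Nat.land lg 1) 0 && Nat.blt x 262144 && !Nat.beq x 0

/-- The upward image lies higher. -/
noncomputable def climbOK (c : ℕ) : Bool :=
  let y := least (img (up c) c)
  Nat.blt (height c) (height y) && normal y && (even2 y == even2 c)

/-- The images stay in the table. -/
noncomputable def closedOK (c : ℕ) : Bool :=
  [0, 1, 2, 3].all fun k => let y := least (img k c); normal y && !(Nat.beq (height y) 0) && !(even2 y)

/-- The check on one line. -/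
noncomputable def lineOK (c : ℕ) : Bool :=
  if Nat.beq (height c) 0 then !(even2 c)
  else (Nat.beq c 1 || Nat.beq c 5 || climbOK c) && (even2 c || closedOK c)

/-- The lines of one leading place, from a start on. -/
noncomputable def linesOK (p lo n : ℕ) : Bool := (List.range' lo n).all fun r => lineOK (4 ^ p + r)

/-- The number of lines of odd weight in the table. -/
noncomputable def oddCount (p lo n : ℕ) : ℕ :=
  (List.range' lo n).countP fun r => !(Nat.beq (height (4 ^ p + r)) 0) && !(even2 (4 ^ p + r))

end CfsgLib.Spor.J3.Lines
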